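import Cfsg.Agent.H39.Push.OneData

/-!
Rank one pushing up: the split into the two cases of critical neighbours.
-/

set_option autoImplicit false
set_option linter.style.haveILetI false

open scoped commutatorElement

namespace Cfsg.Agent.H39.Push

open Cfsg.Agent Subgroup H72.RankOne H72.Push

/-- The data, given the case where all neighbours of distance one commute. -/
theorem rankData_of_branch {G : Type*} [Group G] [Finite G] {p : ℕ} [Fact p.Prime] {S : Sylow p G}
    {K : Subgroup G} {F : Type} [Field F] [Fintype F] {n : ℕ} (h : Setup S K F n) (hnc : NoChar (S : Subgroup G))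
    (two : ∀ (A : Subgroup (Equiv.Perm G)) (Z : Subgroup G) (c : G)
      (ρ : G →* Matrix.SpecialLinearGroup (Fin 2) F) (θ : G → Fin 2 → F),
      CentreFacts S Z (p ^ n) →
      NatSect (F := F) (S : Subgroup G) Z (Z ⊓ centralizer ((⊤ : Subgroup G) : Set G))
        (Z ⊓ centralizer ((S : Subgroup G) : Set G)) c ρ θ →
      Sit (Equiv.Perm G) p (H59.PushUp.lreg G).range ((S : Subgroup G).map (H59.PushUp.lreg G))
        ((Cfsg.pCore p G).map (H59.PushUp.lreg G)) (Z.map (H59.PushUp.lreg G)) A (p ^ n) →
      Near (H59.PushUp.lreg G).range A (Z.map (H59.PushUp.lreg G)) 2 →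
      (∃ g ∈ dist (H59.PushUp.lreg G).range A 2, ¬ Com (Z.map (H59.PushUp.lreg G)) g) →
      H34.Push.RankData p (S : Subgroup G) F n) :
    H34.Push.RankData p (S : Subgroup G) F n := by
  obtain ⟨A, Z, c, ρ, θ, hc, hn, hs, -⟩ := exists_regular_sit h hnc
  rcases hs.exists_crit with ⟨a, ha, hac⟩ | ⟨hN, hg⟩
  · exact rankData_one h hnc hc hn hs H59.PushUp.lreg_injective ha hac
  · exact two A Z c ρ θ hc hn hs hN hg

end Cfsg.Agent.H39.Push
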