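import Cfsg.Agent.H39.Push.Transport
import Cfsg.Agent.H34.Push.Core
import Cfsg.Agent.H73.PClosed
import Cfsg.Agent.H51.NaturalIrreducible

/-!
The residual of a rank one subgroup over the Baumann subgroup is a block of the whole group.
-/

set_option autoImplicit false
set_option linter.style.haveILetI false
set_option linter.unusedSectionVars false
set_option maxHeartbeats 1000000

open scoped commutatorElement

namespace Cfsg.Agent.H39.Push

open Cfsg.Agent Subgroup H34.Push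

universe u

variable {G : Type u} [Group G] [Finite G] {p : ℕ} [Fact p.Prime] {T : Sylow p G} {M : Subgroup G}
  {F : Type} [Field F] [Fintype F] {n : ℕ}

/-- An invariant subgroup with abelian part of a nonabelian natural section lies in the kernel. -/
theorem abelian_le_kernel {E Q W U : Subgroup G}
    (hact : Cfsg.ActsAsSL2OnSection F (commutator (Matrix.SpecialLinearGroup (Fin 2) F)) E Q W)
    (hUQ : U ≤ Q) (hEU : E ≤ normalizer (U : Set G)) (hU : ∀ a ∈ U, ∀ b ∈ U, Commute a b)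
    (hW : ∀ w ∈ W, ∀ x ∈ Q, Commute w x) (hQ : ⁅Q, Q⁆ ≠ ⊥) : U ≤ W := by
  obtain ⟨-, hWQ, ρ, ψ, hρ, hψ, hker, hact⟩ := hact
  by_contra hUW
  obtain ⟨x, hxU, hxW⟩ := SetLike.not_le_iff_exists.1 hUW
  let I : AddSubgroup (Fin 2 → F) :=
    { carrier := {v | ∃ u : Q, (u : G) ∈ U ∧ Multiplicative.toAdd (ψ u) = v}
      zero_mem' := ⟨1, U.one_mem, by rw [map_one]; rfl⟩
      add_mem' := by
        rintro _ _ ⟨a, ha, rfl⟩ ⟨b, hb, rfl⟩
        exact ⟨a * b, U.mul_mem ha hb, by rw [map_mul]; rfl⟩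
      neg_mem' := by
        rintro _ ⟨a, ha, rfl⟩
        exact ⟨a⁻¹, U.inv_mem ha, by rw [map_inv]; rfl⟩ }
  have hinv : ∀ g ∈ commutator (Matrix.SpecialLinearGroup (Fin 2) F), ∀ v ∈ I,
      ((g : Matrix.SpecialLinearGroup (Fin 2) F) : Matrix (Fin 2) (Fin 2) F).mulVec v ∈ I := by
    intro g hg v hv
    rw [← hρ] at hg
    obtain ⟨e, rfl⟩ := hg
    obtain ⟨u, hu, rfl⟩ := hv
    obtain ⟨w, hw, hwv⟩ := hact e u
    exact ⟨w, hw ▸ (mem_normalizer_iff.1 (hEU e.2) _).1 hu, hwv⟩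
  have htop : I = ⊤ := H51.sl2_derived_irreducible I hinv (v := Multiplicative.toAdd (ψ ⟨x, hUQ hxU⟩))
    ⟨_, hxU, rfl⟩ fun h0 => hxW ((hker ⟨x, hUQ hxU⟩).1 (Multiplicative.toAdd.injective h0))
  have hdec : ∀ a : G, a ∈ Q → ∃ u ∈ U, ∃ w ∈ W, a = u * w := by
    intro a ha
    obtain ⟨u, hu, huv⟩ : Multiplicative.toAdd (ψ ⟨a, ha⟩) ∈ I := htop ▸ AddSubgroup.mem_top _
    refine ⟨u, hu, (u : G)⁻¹ * a, ?_, (mul_inv_cancel_left _ _).symm⟩
    have h1 : ψ (u⁻¹ * ⟨a, ha⟩) = 1 := by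
      rw [map_mul, map_inv, Multiplicative.toAdd.injective huv, inv_mul_cancel]
    exact (hker _).1 h1
  refine hQ (eq_bot_iff.2 (commutator_le.2 fun a ha b hb => mem_bot.2 ?_))
  obtain ⟨u, hu, w, hw, rfl⟩ := hdec a ha
  obtain ⟨u', hu', w', hw', rfl⟩ := hdec b hb
  exact commutatorElement_eq_one_iff_commute.2 (((hU u hu u' hu').mul_right (hW w' hw' u (hUQ hu)).symm).mul_left
    (hW w hw _ hb))

/-- The data of rank one pushing up, read in the whole group. -/
theorem rankBlock (hc : Ctx T M) {r : ℕ} {E : Fin r → Subgroup G} (co : Core T E) {R : Subgroup G}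
    (hR : RankSub T F n R)
    (hD : ∀ S : Sylow p ↥R, (S : Subgroup ↥R) = (Cfsg.baumannSubgroupOf p (T : Subgroup G)).subgroupOf R →
      RankData p (S : Subgroup ↥R) F n) :
    RankBlock T F n R := by
  obtain ⟨S, K, hS, hsetup⟩ := hR.setup
  have rd := hD S hS
  set ι := R.subtype with hιdef
  have hι : Function.Injective ι := R.subtype_injective
  set B := Cfsg.baumannSubgroupOf p (T : Subgroup G) with hBdef
  set P := pee p (T : Subgroup G) with hPdef
  set E₀ := Cfsg.pResidual p ↥R with hE₀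
  set EE := Cfsg.pResidualOf p R with hEE
  have hBT : B ≤ (T : Subgroup G) := inf_le_left
  have hSmap : (S : Subgroup ↥R).map ι = B := by
    rw [hS, subgroupOf_map_subtype, inf_eq_left.2 hR.B_le]
  have hE : E₀.map ι = EE := rfl
  have hQE : Cfsg.pCoreOf p EE = (Cfsg.pCoreOf p E₀).map ι := pCoreOf_map ι hι E₀
  have hWE : Cfsg.omegaOneCenter p (Cfsg.pCoreOf p EE) =
      (Cfsg.omegaOneCenter p (Cfsg.pCoreOf p E₀)).map ι := by
    rw [hQE, omegaOneCenter_map ι hι]
  have hWC : Cfsg.omegaOneCenter p (Cfsg.pCoreOf p EE) ⊓ centralizer (EE : Set G) =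
      (Cfsg.omegaOneCenter p (Cfsg.pCoreOf p E₀) ⊓ centralizer (E₀ : Set ↥R)).map ι := by
    rw [map_inf_centralizer ι hι, ← hWE, hE]
  have hEC : EE ⊓ centralizer (EE : Set G) = (E₀ ⊓ centralizer (E₀ : Set ↥R)).map ι := by
    rw [map_inf_centralizer ι hι, hE]
  -- `O_p(R)` contains `P`
  set X₀ := Cfsg.pCore p ↥R with hX₀
  have hX₀S : X₀ ≤ (S : Subgroup ↥R) := H35.pCore_le_sylow S
  have hX₀B : X₀.map ι ≤ B := hSmap ▸ map_mono hX₀S
  have hPB : P ≤ B := co.P_eq.ge.trans inf_le_right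
  have hPR : P ≤ R := hPB.trans hR.B_le
  haveI hPn : P.Normal := pee_normal
  have hPX : P ≤ X₀.map ι := by
    have h1 : P.subgroupOf R ≤ X₀ := le_sSup ⟨inferInstance,
      ((H35.isPGroup_pCore p G).to_le inf_le_left).comap_of_injective _ hι⟩
    calc P = (P.subgroupOf R).map ι := by rw [hιdef, subgroupOf_map_subtype, inf_eq_left.2 hPR]
      _ ≤ X₀.map ι := map_mono h1
  have hcc : ⁅X₀.map ι, EE⁆ = Cfsg.pCoreOf p EE := by
    rw [← hE, ← map_commutator, rd.core_comm, hE, hQE]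
  have hfr : ⁅(frattini ↥(X₀.map ι)).map (X₀.map ι).subtype, EE⁆ = ⊥ := by
    rw [frattini_map ι hι, ← hE, ← map_commutator, rd.frat, Subgroup.map_bot]
  have hsup : EE ⊔ B = R := by
    rw [← hE, ← hSmap, ← Subgroup.map_sup, H22.pResidual_sup_sylow S, ← MonoidHom.range_eq_map,
      Subgroup.range_subtype]
  have hEB : ⁅EE, B⁆ = EE := by rw [← hE, ← hSmap, ← map_commutator, rd.comm_S]
  have hcs : ⁅Cfsg.pCoreOf p EE, EE⁆ = Cfsg.pCoreOf p EE := by
    rw [hQE, ← hE, ← map_commutator, rd.core_self]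
  have hiso : Nonempty (↥EE ⧸ Cfsg.pCore p ↥EE ≃* ↥(commutator (Matrix.SpecialLinearGroup (Fin 2) F))) := by
    obtain ⟨e⟩ := rd.iso
    obtain ⟨e'⟩ := H51.quotient_pCore_congr (E₀.equivMapOfInjective ι hι) p
    exact ⟨e'.symm.trans e⟩
  have htop : (⨆ t : ↥(T : Subgroup G), EE.map (MulAut.conj (t : G)).toMonoidHom) ⊔ (T : Subgroup G) = ⊤ := by
    refine top_le_iff.1 (hR.gen ▸ sup_le ?_ le_sup_right)
    rw [← hsup]
    refine sup_le (le_sup_of_le_left (le_iSup_of_le 1 fun x hx => ⟨x, hx, ?_⟩)) (le_sup_of_le_right hBT)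
    simp
  have hQX : Cfsg.pCoreOf p EE ≤ X₀.map ι := by
    rw [hQE]
    refine map_mono ?_
    rw [H73.pCoreOf_normal]
    exact inf_le_right
  have hQT : Cfsg.pCoreOf p EE ≤ B := hQX.trans hX₀B
  have hcommP : ⁅P, EE⁆ ≤ Cfsg.pCoreOf p EE := hcc ▸ commutator_mono hPX le_rfl
  have hX₀p : IsPGroup p ↥(X₀.map ι) := (H35.isPGroup_pCore p ↥R).map ι
  have hΦ : ∀ a ∈ X₀.map ι, ∀ b ∈ X₀.map ι, ∀ e ∈ EE, ⁅⁅a, b⁆, e⁆ = 1 := fun a ha b hb e he =>
    (mem_bot (G := G)).1 (hfr ▸ commutator_mem_commutator (H74.commutator_mem_frattini_map hX₀p ha hb) he)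
  -- `O_p(E)` centralises `V`
  have hVP : vee p G ≤ P := le_sup_left.trans co.W_le
  have hVE : ⁅⁅vee p G, EE⁆, Cfsg.pCoreOf p EE⁆ = ⊥ := by
    have hUQ : ⁅vee p G, EE⁆ ≤ Cfsg.pCoreOf p EE := (commutator_mono hVP le_rfl).trans hcommP
    rcases rd.shape with hW | ⟨hp3, hts, hQQ, -, hcen, hcard, -⟩
    · refine commutator_eq_bot_iff_le_centralizer.2 (hUQ.trans ?_)
      have hQW : Cfsg.pCoreOf p EE ≤ Cfsg.omegaOneCenter p (Cfsg.pCoreOf p EE) := by rw [hWE, ← hW, hQE]
      exact (hQW.trans (H34.omegaOne_le _)).trans inf_le_right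
    · set W := Cfsg.omegaOneCenter p (Cfsg.pCoreOf p EE) with hWdef
      have hWQ : ∀ w ∈ W, ∀ x ∈ Cfsg.pCoreOf p EE, Commute w x := fun w hw x hx =>
        (mem_centralizer_iff.1 (H74.mem_omegaOneCenter_iff.1 hw).1.2 x hx).symm
      have hact : Cfsg.ActsAsSL2OnSection F (commutator (Matrix.SpecialLinearGroup (Fin 2) F)) EE
          (Cfsg.pCoreOf p EE) W := by
        rw [hQE, hWE, ← hE]; exact actsAsSL2_map ι hι hts
      have hQne : ⁅Cfsg.pCoreOf p EE, Cfsg.pCoreOf p EE⁆ ≠ ⊥ := by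
        intro hb
        rw [hQE, ← map_commutator, hQQ, ← hcen, Subgroup.map_eq_bot_iff_of_injective _ hι] at hb
        rw [hb, card_bot] at hcard
        exact (Nat.one_lt_pow (by have := hsetup.pos; omega) (by norm_num)).ne hcard
      refine commutator_eq_bot_iff_le_centralizer.2 ?_
      have hUW : ⁅vee p G, EE⁆ ≤ W := by
        haveI := vee_normal (G := G) (p := p)
        refine abelian_le_kernel hact hUQ (normalizer_commutator_ge_right _ _) (fun a ha b hb => ?_) hWQ hQne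
        have hab : IsMulCommutative ↥(vee p G) := (vee_elementary (G := G) (p := p)).1
        exact congrArg Subtype.val (hab.is_comm.comm (⟨a, commutator_le_left _ _ ha⟩ : vee p G)
          ⟨b, commutator_le_left _ _ hb⟩)
      exact hUW.trans fun w hw => mem_centralizer_iff.2 fun x hx => (hWQ w hw x hx).eq.symm
  have hQV : ⁅Cfsg.pCoreOf p EE, vee p G⁆ = ⊥ := by
    have h1 : ⁅⁅EE, Cfsg.pCoreOf p EE⁆, vee p G⁆ = ⊥ := by
      refine commutator_commutator_eq_bot_of_rotate ?_ hVE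
      refine commutator_eq_bot_iff_le_centralizer.2 (commutator_le.2 fun a ha b hb => ?_)
      have haX : a ∈ X₀.map ι := hQX ha
      refine mem_centralizer_iff.2 fun e he => ?_
      exact ((commutatorElement_eq_one_iff_commute.1 (hΦ a haX b (hPX (hVP hb)) e he)).eq).symm
    rwa [commutator_comm EE, hcs] at h1
  have hcore : Cfsg.pCoreOf p EE ≤ P := by
    have h1 : Cfsg.pCoreOf p EE ≤ Cfsg.pCore p G := by
      rw [← hc.inf_cee]
      exact le_inf (hQT.trans hBT) (commutator_eq_bot_iff_le_centralizer.1 hQV)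
    exact (le_inf h1 hQT).trans co.P_eq.le
  have homega : ⁅Cfsg.omegaOneCenter p (Cfsg.pCoreOf p EE), EE⁆ ≤ wee p (T : Subgroup G) := by
    haveI := wee_normal (T := T)
    rw [hWE, ← hE, ← map_commutator, map_le_iff_le_comap]
    refine rd.omega_comm.trans (normalClosure_le_normal ?_)
    intro x hx
    refine co.omega_B ?_
    show ι x ∈ Cfsg.omegaOneCenter p B
    rw [← hSmap, omegaOneCenter_map ι hι]
    exact mem_map_of_mem ι hx
  refine ⟨⟨?_, hEB, hcs, ?_, Or.inl ⟨F, inferInstance, inferInstance, n, hsetup.card, hiso, ?_, ?_⟩⟩,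
    hiso, hsup, hcore, hcommP, ?_, homega, htop, fun hp2 => ?_⟩
  · show Cfsg.pResidualOf p (E₀.map ι) = E₀.map ι
    rw [pResidualOf_map ι hι]
    congr 1
    rw [Cfsg.pResidualOf, show Cfsg.pResidual p ↥E₀ = ⊤ from H22.pResidual_pResidual_eq_top,
      ← MonoidHom.range_eq_map, Subgroup.range_subtype]
  · intro hb
    set Z := Cfsg.omegaOneCenter p (T : Subgroup G) with hZdef
    have hTC : (T : Subgroup G) ≤ centralizer (Z : Set G) := Ctx.T_le_cent_omega
    have hEZ : EE ≤ centralizer (Z : Set G) := commutator_eq_bot_iff_le_centralizer.1 hb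
    have htopC : (⊤ : Subgroup G) ≤ centralizer (Z : Set G) := by
      rw [← htop]
      refine sup_le (iSup_le fun t => ?_) hTC
      rintro _ ⟨e, he, rfl⟩
      exact mul_mem (mul_mem (hTC t.2) (hEZ he)) (inv_mem (hTC t.2))
    refine hc.hz ⟨fun z hz g => ?_⟩
    rwa [← mem_centralizer_iff.1 (htopC (mem_top g)) z hz, mul_inv_cancel_right]
  · rw [hWC, hWE]; exact actsAsSL2_map ι hι rd.act
  · rcases rd.shape with hW | ⟨hp3, hts, hQQ, hfrQ, hcen, hcard, hquad⟩
    · exact Or.inl (by rw [hWE, ← hW, hQE])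
    refine Or.inr ⟨hp3, ?_, ?_, ?_, ?_, ?_, fun b hb hbW hle => ?_⟩
    · rw [hWE, hQE]
      exact actsAsSL2_map ι hι hts
    · rw [hWC, hQE, ← map_commutator, hQQ]
    · rw [hWC, hQE, frattini_map ι hι, hfrQ]
    · rw [hWC, hEC, hcen]
    · rw [hEC, card_map_of_injective hι]; exact hcard
    · rw [hWE] at hbW
      rw [hEC, hQE] at hle
      set b₀ : ↥R := ⟨b, hR.B_le hb⟩
      have hz : (zpowers b : Subgroup G) = (zpowers b₀).map ι := by rw [MonoidHom.map_zpowers]; rfl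
      rw [hz, ← map_commutator, ← map_commutator, map_le_map_iff_of_injective hι] at hle
      refine hquad b₀ (by rw [hS]; exact hb) (fun hcb => hbW (mem_centralizer_iff.2 ?_)) hle
      rintro _ ⟨w, hw, rfl⟩
      exact congrArg ι (mem_centralizer_iff.1 hcb w hw)
  · refine le_bot_iff.1 (hfr ▸ commutator_mono ?_ le_rfl)
    exact H74.map_frattini_le_of (p := p)
      (fun a ha b hb => H74.commutator_mem_frattini_map hX₀p (hPX ha) (hPX hb))
      (fun a ha => H74.pow_mem_frattini_map hX₀p (hPX ha))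
  · rcases rd.shape with hW | ⟨hp3, -⟩
    · refine hcommP.trans ?_
      rw [← hcs]
      refine le_trans (le_of_eq ?_) homega
      rw [hWE, ← hW, hQE]
    · omega

end Cfsg.Agent.H39.Push
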