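import Cfsg.Agent.H72.Push.One
import Cfsg.Agent.H59.PushUp.Regular
import Cfsg.Agent.H34.Push.Spec
import Cfsg.Agent.H73.PClosed
import Cfsg.Agent.H74.PushingUpCL

/-!
The parts of the rank one pushing up data shared by both branches.
-/

set_option autoImplicit false
set_option linter.style.haveILetI false

open scoped commutatorElement

namespace Cfsg.Agent.H39.Push

open Cfsg.Agent Subgroup H72.RankOne H72.Push

/-! ### The derived subgroup of `SL₂` -/

section SL

variable {F : Type} [Field F]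

local notation "SL2" => Matrix.SpecialLinearGroup (Fin 2) F

theorem xu_pow (c : F) : ∀ k : ℕ, (H75.SL2Natural.xu c : SL2) ^ k = H75.SL2Natural.xu ((k : F) * c)
  | 0 => by rw [pow_zero, Nat.cast_zero, zero_mul, H75.SL2Natural.xu_zero]
  | k + 1 => by rw [pow_succ, xu_pow c k, ← H75.SL2Natural.xu_add]; push_cast; ring_nf

theorem yl_pow (c : F) : ∀ k : ℕ, (H75.SL2Natural.yl c : SL2) ^ k = H75.SL2Natural.yl ((k : F) * c)
  | 0 => by
    apply Subtype.ext
    simp [H75.SL2Natural.yl_val, Matrix.one_fin_two]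
  | k + 1 => by rw [pow_succ, yl_pow c k, ← H75.SL2Natural.yl_add]; push_cast; ring_nf

/-- Two root elements do not commute. -/
theorem xu_yl_not_comm : ¬ Commute (H75.SL2Natural.xu (1 : F) : SL2) (H75.SL2Natural.yl 1) := by
  intro h
  have := congrArg (fun M : SL2 => (M : Matrix (Fin 2) (Fin 2) F) 0 0) h.eq
  simp [H75.SL2Natural.xu_val, H75.SL2Natural.yl_val] at this

theorem commutator_sl_ne_bot : commutator (SL2) ≠ ⊥ := fun h => xu_yl_not_comm (F := F)
  (commutatorElement_eq_one_iff_commute.1 ((mem_bot (G := SL2)).1 (h ▸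
    commutator_mem_commutator (mem_top (H75.SL2Natural.xu (1 : F))) (mem_top (H75.SL2Natural.yl (1 : F))))))

/-- The derived subgroup fixes no nonzero vector. -/
theorem commutator_sl_fixed {v : Fin 2 → F} (h : ∀ g ∈ commutator (SL2), g.1.mulVec v = v) : v = 0 := by
  let I : AddSubgroup (Fin 2 → F) :=
    { carrier := {v | ∀ g ∈ commutator (SL2), g.1.mulVec v = v}
      add_mem' := fun {a b} ha hb g hg => by rw [Matrix.mulVec_add, ha g hg, hb g hg]
      zero_mem' := fun g _ => Matrix.mulVec_zero _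
      neg_mem' := fun {a} ha g hg => by rw [Matrix.mulVec_neg, ha g hg] }
  have hI : ∀ (g : SL2), ∀ v ∈ I, g.1.mulVec v ∈ I := fun g v hv k hk => by
    have h1 := hv _ ((inferInstance : (commutator (SL2)).Normal).conj_mem k hk g⁻¹)
    rw [inv_inv] at h1
    have h2 := congrArg (fun w => g.1.mulVec w) h1
    simp only [Matrix.mulVec_mulVec, ← Matrix.SpecialLinearGroup.coe_mul] at h2
    rw [Matrix.mulVec_mulVec, ← Matrix.SpecialLinearGroup.coe_mul]
    rwa [show g * (g⁻¹ * k * g) = k * g by group] at h2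
  rcases eq_or_ne I ⊥ with he | he
  · have : v ∈ I := h
    rwa [he] at this
  · exfalso
    have ht := plane_irred hI he
    refine commutator_sl_ne_bot (F := F) (eq_bot_iff.2 fun g hg => mem_bot.2 (Subtype.ext ?_))
    refine Matrix.toLin'.injective (LinearMap.ext fun w => ?_)
    simpa using (ht ▸ AddSubgroup.mem_top w : w ∈ I) g hg

/-- The `p`-residual of `SL₂` in characteristic `p` lies in the derived subgroup. -/
theorem pResidual_sl_le {p : ℕ} [Fact p.Prime] [CharP F p] :
    Cfsg.pResidual p (SL2) ≤ commutator (SL2) := by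
  refine H22.pResidual_le_of_isPGroup_quotient _ fun x => ⟨1, ?_⟩
  obtain ⟨g, rfl⟩ := QuotientGroup.mk'_surjective _ x
  have hab : ∀ a b : SL2, Commute (QuotientGroup.mk' (commutator (SL2)) a) (QuotientGroup.mk' _ b) := fun a b => by
    rw [← commutatorElement_eq_one_iff_commute, ← map_commutatorElement, QuotientGroup.mk'_apply,
      QuotientGroup.eq_one_iff]
    exact commutator_mem_commutator (mem_top a) (mem_top b)
  refine H75.SL2Natural.sl_induction (fun g => QuotientGroup.mk' (commutator (SL2)) g ^ p ^ 1 = 1)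
    (fun c => ?_) (fun c => ?_) (fun a b ha hb => ?_) g
  · rw [← map_pow, xu_pow, pow_one, CharP.cast_eq_zero, zero_mul, H75.SL2Natural.xu_zero, map_one]
  · rw [← map_pow, yl_pow, pow_one, CharP.cast_eq_zero, zero_mul]
    rw [show (H75.SL2Natural.yl (0 : F) : SL2) = 1 from by
      apply Subtype.ext; simp [H75.SL2Natural.yl_val, Matrix.one_fin_two], map_one]
  · rw [map_mul, (hab a b).mul_pow, ha, hb, one_mul]

end SL

/-! ### The residual in a rank one group -/

variable {G : Type*} [Group G] [Finite G] {p : ℕ} [Fact p.Prime] {S : Sylow p G} {K : Subgroup G} {F : Type}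
  [Field F] [Fintype F] {n q : ℕ} {Z : Subgroup G} {c : G} {ρ : G →* Matrix.SpecialLinearGroup (Fin 2) F}
  {θ : G → Fin 2 → F}

/-- A cover of `S` over `O_p(G)` has normal closure containing the residual. -/
theorem res_le_normalClosure (h : Setup S K F n) {Y : Subgroup G} (hYS : Y ≤ (S : Subgroup G))
    (hYQ : Y ⊔ Cfsg.pCore p G = (S : Subgroup G)) : Cfsg.pResidual p G ≤ normalClosure (Y : Set G) :=
  H73.pResidual_le_of_sup_pgroup (H35.isPGroup_pCore p G) (Setup.cover_sup h hYS hYQ)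

/-- `[E, S] = E` for the residual `E`. -/
theorem res_comm_sylow (h : Setup S K F n) :
    ⁅Cfsg.pResidual p G, (S : Subgroup G)⁆ = Cfsg.pResidual p G := by
  set E := Cfsg.pResidual p G with hE
  haveI hEn : E.Normal := H22.pResidual_normal
  have htop : E ⊔ (S : Subgroup G) = ⊤ := H22.pResidual_sup_sylow S
  refine le_antisymm (commutator_le_left _ _) ?_
  set N := ⁅E, (S : Subgroup G)⁆ with hN
  haveI hNn : N.Normal := normalizer_eq_top_iff.1 (eq_top_iff.2
    (htop ▸ sup_le (normalizer_commutator_ge_left _ _) (normalizer_commutator_ge_right _ _)))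
  haveI hLn : (N ⊔ (S : Subgroup G)).Normal := by
    refine normalizer_eq_top_iff.1 (eq_top_iff.2 (htop ▸ sup_le ?_ (le_sup_right.trans le_normalizer)))
    rw [le_normalizer_iff_commutator_le_right, commutator_le]
    intro e he x hx
    rw [← SetLike.mem_coe, Subgroup.normal_mul] at hx
    obtain ⟨m, hm, s, hs, rfl⟩ := hx
    have e1 : ⁅e, m * s⁆ = ⁅e, m⁆ * (m * ⁅e, s⁆ * m⁻¹) := by simp only [commutatorElement_def]; group
    rw [e1]
    refine mul_mem (mem_sup_left ?_) (mem_sup_left (hNn.conj_mem _ (commutator_mem_commutator he hs) m))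
    rw [commutatorElement_def]
    exact N.mul_mem (hNn.conj_mem m hm e) (N.inv_mem hm)
  have hNS : N ⊔ (S : Subgroup G) = ⊤ := by
    by_contra hne
    have h1 : (S : Subgroup G) ≤ Cfsg.pCore p G :=
      (le_inf le_rfl le_sup_right).trans
        (h.inf_le_pCore (L := N ⊔ (S : Subgroup G)) (by rwa [sup_assoc, sup_idem]))
    have h2 := h.relIndex_pCore
    rw [relIndex_eq_one.2 h1] at h2
    exact (Nat.one_lt_pow (by have := h.pos; omega) (Fact.out : p.Prime).one_lt).ne h2
  exact H73.pResidual_le_of_sup_pgroup S.2 hNS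

/-- The residual maps onto the derived subgroup. -/
theorem map_res (h : Setup S K F n)
    (hn : NatSect (F := F) (S : Subgroup G) Z (Z ⊓ centralizer ((⊤ : Subgroup G) : Set G))
      (Z ⊓ centralizer ((S : Subgroup G) : Set G)) c ρ θ) :
    (Cfsg.pResidual p G).map ρ = commutator (Matrix.SpecialLinearGroup (Fin 2) F) := by
  haveI : CharP F p := H72.charP_of_card h.card
  haveI hEn : (Cfsg.pResidual p G).Normal := H22.pResidual_normal
  set T := (Cfsg.pResidual p G).map ρ with hT
  haveI hTn : T.Normal := hEn.map ρ hn.surj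
  refine le_antisymm ((H22.map_pResidual_of_surjective ρ hn.surj).le.trans pResidual_sl_le) ?_
  rw [_root_.commutator_def, commutator_le]
  intro a _ b _
  have hdec : ∀ a, ∃ t : F, QuotientGroup.mk' T a = QuotientGroup.mk' T (H75.SL2Natural.xu t) := by
    intro a
    obtain ⟨g, rfl⟩ := hn.surj a
    have hg : g ∈ Cfsg.pResidual p G ⊔ (S : Subgroup G) := (H22.pResidual_sup_sylow S) ▸ mem_top g
    rw [← SetLike.mem_coe, Subgroup.normal_mul] at hg
    obtain ⟨e, he, s, hs, rfl⟩ := hg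
    obtain ⟨t, ht⟩ := hn.upper s hs
    refine ⟨t, ?_⟩
    rw [map_mul ρ, map_mul, ht, (QuotientGroup.eq_one_iff (ρ e)).2 (mem_map_of_mem ρ he) |> fun h1 =>
      (show QuotientGroup.mk' T (ρ e) = 1 from h1), one_mul]
  obtain ⟨s, hs⟩ := hdec a
  obtain ⟨t, ht⟩ := hdec b
  refine (QuotientGroup.eq_one_iff (N := T) ⁅a, b⁆).1 ?_
  show QuotientGroup.mk' T ⁅a, b⁆ = 1
  rw [map_commutatorElement, hs, ht, ← map_commutatorElement,
    commutatorElement_eq_one_iff_commute.2 ?_, map_one]
  show _ * _ = _ * _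
  rw [← H75.SL2Natural.xu_add, ← H75.SL2Natural.xu_add, add_comm]

/-- The residual modulo its `p`-core. -/
theorem iso_res (h : Setup S K F n)
    (hn : NatSect (F := F) (S : Subgroup G) Z (Z ⊓ centralizer ((⊤ : Subgroup G) : Set G))
      (Z ⊓ centralizer ((S : Subgroup G) : Set G)) c ρ θ) (hker : ρ.ker = Cfsg.pCore p G) :
    Nonempty (↥(Cfsg.pResidual p G) ⧸ Cfsg.pCore p ↥(Cfsg.pResidual p G) ≃*
      ↥(commutator (Matrix.SpecialLinearGroup (Fin 2) F))) := by
  haveI hEn : (Cfsg.pResidual p G).Normal := H22.pResidual_normal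
  set E := Cfsg.pResidual p G with hE
  let f : E →* Matrix.SpecialLinearGroup (Fin 2) F := ρ.comp E.subtype
  have hk : f.ker = Cfsg.pCore p ↥E := by
    refine map_injective E.subtype_injective ?_
    show _ = Cfsg.pCoreOf p E
    rw [H73.pCoreOf_normal]
    ext x
    constructor
    · rintro ⟨y, hy, rfl⟩
      exact ⟨y.2, hker ▸ (hy : ρ (y : G) = 1)⟩
    · rintro ⟨hx, hxQ⟩
      exact ⟨⟨x, hx⟩, show ρ x = 1 from MonoidHom.mem_ker.1 (hker ▸ hxQ), rfl⟩
  have hr : f.range = commutator (Matrix.SpecialLinearGroup (Fin 2) F) := by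
    rw [MonoidHom.range_comp, Subgroup.range_subtype]; exact map_res h hn
  exact ⟨(QuotientGroup.quotientMulEquivOfEq hk.symm).trans
    ((QuotientGroup.quotientKerEquivRange f).trans (MulEquiv.subgroupCongr hr))⟩

/-- `Z = [Z, E] C`. -/
theorem centre_le_comm_sup (h : Setup S K F n)
    (hn : NatSect (F := F) (S : Subgroup G) Z (Z ⊓ centralizer ((⊤ : Subgroup G) : Set G))
      (Z ⊓ centralizer ((S : Subgroup G) : Set G)) c ρ θ) :
    Z ≤ ⁅Z, Cfsg.pResidual p G⁆ ⊔ (Z ⊓ centralizer ((⊤ : Subgroup G) : Set G)) := by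
  haveI hEn : (Cfsg.pResidual p G).Normal := H22.pResidual_normal
  haveI := hn.normA
  refine (hn.image_cases (H := ⁅Z, Cfsg.pResidual p G⁆) inferInstance (commutator_le_left _ _)).resolve_left
    fun hle => ?_
  refine commutator_sl_ne_bot (F := F) (eq_bot_iff.2 ?_)
  rw [← map_res h hn]
  rintro _ ⟨e, he, rfl⟩
  refine mem_bot.2 ((hn.ker e).2 fun a ha => ?_)
  rw [← commutatorElement_inv]
  exact inv_mem (hle (commutator_mem_commutator ha he))

/-- Commutators with `Z` are those with `[Z, E]`. -/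
theorem comm_centre (h : Setup S K F n)
    (hn : NatSect (F := F) (S : Subgroup G) Z (Z ⊓ centralizer ((⊤ : Subgroup G) : Set G))
      (Z ⊓ centralizer ((S : Subgroup G) : Set G)) c ρ θ) {z : G} (hz : z ∈ Z) :
    ∃ w ∈ ⁅Z, Cfsg.pResidual p G⁆, ∀ g : G, ⁅z, g⁆ = ⁅w, g⁆ := by
  haveI hEn : (Cfsg.pResidual p G).Normal := H22.pResidual_normal
  haveI := hn.normA
  have h1 := centre_le_comm_sup h hn hz
  rw [← SetLike.mem_coe, Subgroup.normal_mul] at h1
  obtain ⟨w, hw, d, hd, rfl⟩ := h1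
  refine ⟨w, hw, fun g => ?_⟩
  have hdg : d * g * d⁻¹ = g := by
    rw [← mem_centralizer_iff.1 hd.2 g (mem_top g), mul_inv_cancel_right]
  simp only [commutatorElement_def]
  rw [show w * d * g * (w * d)⁻¹ * g⁻¹ = w * (d * g * d⁻¹) * w⁻¹ * g⁻¹ by group, hdg]

/-- `[[Z, E], E] = [Z, E]`. -/
theorem comm_comm_centre (h : Setup S K F n)
    (hn : NatSect (F := F) (S : Subgroup G) Z (Z ⊓ centralizer ((⊤ : Subgroup G) : Set G))
      (Z ⊓ centralizer ((S : Subgroup G) : Set G)) c ρ θ) :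
    ⁅⁅Z, Cfsg.pResidual p G⁆, Cfsg.pResidual p G⁆ = ⁅Z, Cfsg.pResidual p G⁆ := by
  haveI hEn : (Cfsg.pResidual p G).Normal := H22.pResidual_normal
  haveI := hn.normA
  refine le_antisymm (commutator_le_left _ _) (commutator_le.2 fun z hz e he => ?_)
  obtain ⟨w, hw, hg⟩ := comm_centre h hn hz
  rw [hg e]
  exact commutator_mem_commutator hw he

/-- `Ω₁(Z(S))` is the centre of `S`. -/
theorem omegaOneCenter_sylow (hc : CentreFacts S Z q) :
    Cfsg.omegaOneCenter p (S : Subgroup G) = (S : Subgroup G) ⊓ centralizer ((S : Subgroup G) : Set G) := by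
  ext x
  rw [H74.mem_omegaOneCenter_iff]
  exact ⟨fun hx => hx.1, fun hx => ⟨hx, hc.elem.2 x (hc.hZS hx)⟩⟩

/-- `[Z, E]` lies in the normal closure of `Ω₁(Z(S))`. -/
theorem comm_le_normalClosure (h : Setup S K F n) (hnc : NoChar (S : Subgroup G)) (hc : CentreFacts S Z q)
    (hn : NatSect (F := F) (S : Subgroup G) Z (Z ⊓ centralizer ((⊤ : Subgroup G) : Set G))
      (Z ⊓ centralizer ((S : Subgroup G) : Set G)) c ρ θ) :
    ⁅Z, Cfsg.pResidual p G⁆ ≤ normalClosure (Cfsg.omegaOneCenter p (S : Subgroup G) : Set G) := by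
  haveI := hc.normal
  set ZS := (S : Subgroup G) ⊓ centralizer ((S : Subgroup G) : Set G) with hZS
  rw [omegaOneCenter_sylow hc]
  set N := normalClosure (ZS : Set G) with hN
  haveI : N.Normal := normalClosure_normal
  have hNZ : N ≤ Z := normalClosure_le_normal hc.hZS
  rcases hn.image_cases (H := N) inferInstance hNZ with h1 | h1
  · exfalso
    have hcen : ZS ≤ Subgroup.center G := fun x hx => mem_center_iff.2 fun g =>
      mem_centralizer_iff.1 (h1 (subset_normalClosure hx)).2 g (mem_top g)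
    have hb : ZS = ⊥ := hnc ZS inf_le_left (autInv_center _) (normal_of_le_center hcen)
    have hSne : (S : Subgroup G) ≠ ⊥ := by
      intro hb'
      have := h.relIndex_pCore
      rw [hb', relIndex_bot_right] at this
      exact (Nat.one_lt_pow (by have := h.pos; omega) (Fact.out : p.Prime).one_lt).ne this
    haveI : Nontrivial (S : Subgroup G) := (Subgroup.nontrivial_iff_ne_bot _).2 hSne
    haveI := S.2.center_nontrivial
    obtain ⟨z, hz⟩ := exists_ne (1 : Subgroup.center (S : Subgroup G))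
    have hzm : ((z : (S : Subgroup G)) : G) ∈ ZS := ⟨z.1.2, mem_centralizer_iff.2 fun s hs =>
      congrArg Subtype.val (Subgroup.mem_center_iff.1 z.2 ⟨s, hs⟩)⟩
    rw [hb, mem_bot] at hzm
    exact hz (Subtype.ext (Subtype.ext hzm))
  · refine commutator_le.2 fun z hz e _ => ?_
    have h2 := h1 hz
    rw [← SetLike.mem_coe, Subgroup.normal_mul] at h2
    obtain ⟨m, hm, d, hd, rfl⟩ := h2
    have hde : d * e * d⁻¹ = e := by
      rw [← mem_centralizer_iff.1 hd.2 e (mem_top e), mul_inv_cancel_right]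
    have e1 : ⁅m * d, e⁆ = m * (e * m⁻¹ * e⁻¹) := by
      simp only [commutatorElement_def]
      rw [show m * d * e * (m * d)⁻¹ * e⁻¹ = m * (d * e * d⁻¹) * m⁻¹ * e⁻¹ by group, hde]
      group
    rw [e1]
    exact N.mul_mem hm (‹N.Normal›.conj_mem _ (N.inv_mem hm) e)

/-- The residual acts on `[Z, E]` as the derived subgroup of `SL₂` on the plane. -/
theorem act_res (h : Setup S K F n)
    (hn : NatSect (F := F) (S : Subgroup G) Z (Z ⊓ centralizer ((⊤ : Subgroup G) : Set G))
      (Z ⊓ centralizer ((S : Subgroup G) : Set G)) c ρ θ) :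
    Cfsg.ActsAsSL2OnSection F (commutator (Matrix.SpecialLinearGroup (Fin 2) F)) (Cfsg.pResidual p G)
      ⁅Z, Cfsg.pResidual p G⁆ (⁅Z, Cfsg.pResidual p G⁆ ⊓ centralizer (Cfsg.pResidual p G : Set G)) := by
  haveI hEn : (Cfsg.pResidual p G).Normal := H22.pResidual_normal
  haveI := hn.normA
  set E := Cfsg.pResidual p G with hE
  set W := ⁅Z, E⁆ with hW
  have hWZ : W ≤ Z := commutator_le_left _ _
  haveI hWn : W.Normal := inferInstance
  let ψ : W →* Multiplicative (Fin 2 → F) :=
    { toFun := fun u => Multiplicative.ofAdd (θ (u : G))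
      map_one' := by
        show Multiplicative.ofAdd (θ 1) = 1
        rw [hn.map_one']; rfl
      map_mul' := fun u v => by
        show Multiplicative.ofAdd (θ ((u : G) * v)) = _
        rw [hn.map_mul _ (hWZ u.2) _ (hWZ v.2)]; rfl }
  refine ⟨le_normalizer_of_normal, inf_le_left, ρ.comp E.subtype, ψ, ?_, fun v => ?_, fun u => ⟨fun hu => ?_,
    fun hu => ?_⟩, fun e u => ⟨⟨e * u * (e : G)⁻¹, hWn.conj_mem _ u.2 e⟩, rfl, hn.equiv _ _ (hWZ u.2)⟩⟩
  · rw [MonoidHom.range_comp, Subgroup.range_subtype]; exact map_res h hn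
  · obtain ⟨a, ha, hav⟩ := hn.onto (Multiplicative.toAdd v)
    have h1 := centre_le_comm_sup h hn ha
    rw [← SetLike.mem_coe, Subgroup.normal_mul] at h1
    obtain ⟨w, hw, d, hd, rfl⟩ := h1
    refine ⟨⟨w, hw⟩, ?_⟩
    rw [hn.map_mul _ (hWZ hw) _ hd.1, (hn.map_eq_zero d hd.1).2 hd, add_zero] at hav
    show Multiplicative.ofAdd (θ w) = v
    rw [hav]; rfl
  · have h0 : θ (u : G) = 0 := congrArg Multiplicative.toAdd hu
    exact ⟨u.2, centralizer_le (le_top (a := E)) ((hn.map_eq_zero _ (hWZ u.2)).1 h0).2⟩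
  · have h0 : θ (u : G) = 0 := by
      refine commutator_sl_fixed fun g hg => ?_
      rw [← map_res h hn] at hg
      obtain ⟨e, he, rfl⟩ := hg
      rw [← hn.equiv e _ (hWZ u.2), mem_centralizer_iff.1 hu.2 e he, mul_inv_cancel_right]
    show Multiplicative.ofAdd (θ (u : G)) = 1
    rw [h0]; rfl

/-- The common part of the data, given what the `p`-core of the residual looks like. -/
theorem rankData_of (h : Setup S K F n) (hnc : NoChar (S : Subgroup G)) (hc : CentreFacts S Z q)
    (hn : NatSect (F := F) (S : Subgroup G) Z (Z ⊓ centralizer ((⊤ : Subgroup G) : Set G))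
      (Z ⊓ centralizer ((S : Subgroup G) : Set G)) c ρ θ) (hker : ρ.ker = Cfsg.pCore p G)
    (hW : Cfsg.omegaOneCenter p (Cfsg.pCoreOf p (Cfsg.pResidual p G)) = ⁅Z, Cfsg.pResidual p G⁆)
    (hcc : ⁅Cfsg.pCore p G, Cfsg.pResidual p G⁆ = Cfsg.pCoreOf p (Cfsg.pResidual p G))
    (hcs : ⁅Cfsg.pCoreOf p (Cfsg.pResidual p G), Cfsg.pResidual p G⁆ = Cfsg.pCoreOf p (Cfsg.pResidual p G))
    (hfr : ⁅(frattini ↥(Cfsg.pCore p G)).map (Cfsg.pCore p G).subtype, Cfsg.pResidual p G⁆ = ⊥)
    (hsh : Cfsg.pCoreOf p (Cfsg.pResidual p G) =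
        Cfsg.omegaOneCenter p (Cfsg.pCoreOf p (Cfsg.pResidual p G)) ∨
      (p = 3 ∧
        Cfsg.ActsAsSL2OnSection F (commutator (Matrix.SpecialLinearGroup (Fin 2) F)) (Cfsg.pResidual p G)
          (Cfsg.pCoreOf p (Cfsg.pResidual p G))
          (Cfsg.omegaOneCenter p (Cfsg.pCoreOf p (Cfsg.pResidual p G))) ∧
        ⁅Cfsg.pCoreOf p (Cfsg.pResidual p G), Cfsg.pCoreOf p (Cfsg.pResidual p G)⁆ =
          Cfsg.omegaOneCenter p (Cfsg.pCoreOf p (Cfsg.pResidual p G)) ⊓
            centralizer (Cfsg.pResidual p G : Set G) ∧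
        (frattini ↥(Cfsg.pCoreOf p (Cfsg.pResidual p G))).map (Cfsg.pCoreOf p (Cfsg.pResidual p G)).subtype =
          Cfsg.omegaOneCenter p (Cfsg.pCoreOf p (Cfsg.pResidual p G)) ⊓
            centralizer (Cfsg.pResidual p G : Set G) ∧
        Cfsg.pResidual p G ⊓ centralizer (Cfsg.pResidual p G : Set G) =
          Cfsg.omegaOneCenter p (Cfsg.pCoreOf p (Cfsg.pResidual p G)) ⊓
            centralizer (Cfsg.pResidual p G : Set G) ∧
        Nat.card ↥(Cfsg.pResidual p G ⊓ centralizer (Cfsg.pResidual p G : Set G)) = 3 ^ n ∧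
        ∀ b : G, b ∈ (S : Subgroup G) →
          b ∉ centralizer (Cfsg.omegaOneCenter p (Cfsg.pCoreOf p (Cfsg.pResidual p G)) : Set G) →
          ¬ ⁅⁅Cfsg.pCoreOf p (Cfsg.pResidual p G), zpowers b⁆, zpowers b⁆ ≤
            Cfsg.pResidual p G ⊓ centralizer (Cfsg.pResidual p G : Set G))) :
    H34.Push.RankData p (S : Subgroup G) F n where
  quot := ⟨ρ, hn.surj, hker⟩
  comm_S := res_comm_sylow h
  core_comm := hcc
  core_self := hcs
  frat := hfr
  omega_comm := by
    rw [hW, comm_comm_centre h hn]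
    exact comm_le_normalClosure h hnc hc hn
  iso := iso_res h hn hker
  act := by rw [hW]; exact act_res h hn
  shape := hsh

/-- Both branches start from this situation inside the symmetric group on `G`. -/
theorem exists_regular_sit (h : Setup S K F n) (hnc : NoChar (S : Subgroup G)) :
    ∃ (A : Subgroup (Equiv.Perm G)) (Z : Subgroup G) (c : G)
      (ρ : G →* Matrix.SpecialLinearGroup (Fin 2) F) (θ : G → Fin 2 → F),
      CentreFacts S Z (p ^ n) ∧
      NatSect (F := F) (S : Subgroup G) Z (Z ⊓ centralizer ((⊤ : Subgroup G) : Set G))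
        (Z ⊓ centralizer ((S : Subgroup G) : Set G)) c ρ θ ∧
      Sit (Equiv.Perm G) p (H59.PushUp.lreg G).range ((S : Subgroup G).map (H59.PushUp.lreg G))
        ((Cfsg.pCore p G).map (H59.PushUp.lreg G)) (Z.map (H59.PushUp.lreg G)) A (p ^ n) ∧
      A = normalizer (((S : Subgroup G).map (H59.PushUp.lreg G) : Subgroup (Equiv.Perm G)) : Set (Equiv.Perm G)) := by
  classical
  haveI : Fintype G := Fintype.ofFinite G
  have hι : Function.Injective (H59.PushUp.lreg G) := H59.PushUp.lreg_injective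
  set A := normalizer (((S : Subgroup G).map (H59.PushUp.lreg G) : Subgroup (Equiv.Perm G)) : Set (Equiv.Perm G))
    with hAdef
  have hncX : ∀ T : Subgroup (Equiv.Perm G), T ≤ (S : Subgroup G).map (H59.PushUp.lreg G) →
      A ≤ normalizer (T : Set (Equiv.Perm G)) →
      (H59.PushUp.lreg G).range ≤ normalizer (T : Set (Equiv.Perm G)) → T = ⊥ := by
    intro T hTS hTA hTG
    have h1 : T.comap (H59.PushUp.lreg G) ≤ (S : Subgroup G) := by
      rw [← comap_map_eq_self_of_injective hι (S : Subgroup G)]; exact comap_mono hTS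
    have h2 := hnc (T.comap (H59.PushUp.lreg G)) h1 (fun α x hx => by
      obtain ⟨σ, hσ⟩ := H59.PushUp.exists_perm_conj (S : Subgroup G) α
      have hσA : σ ∈ A := by
        refine mem_normalizer_fintype ?_
        rintro _ ⟨s, hs, rfl⟩
        exact ⟨(α ⟨s, hs⟩ : G), (α ⟨s, hs⟩).2, (hσ ⟨s, hs⟩).symm⟩
      show H59.PushUp.lreg G (α x : G) ∈ T
      rw [← hσ x]
      exact (mem_normalizer_iff.1 (hTA hσA) _).1 hx)
      ⟨fun x hx g => by
        show H59.PushUp.lreg G (g * x * g⁻¹) ∈ T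
        rw [map_mul, map_mul, map_inv]
        exact (mem_normalizer_iff.1 (hTG ⟨g, rfl⟩) _).1 hx⟩
    rw [← map_comap_eq_self (hTS.trans (map_le_range _ _)), h2, Subgroup.map_bot]
  obtain ⟨Z, hc, hs⟩ := Setup.exists_sit h (H59.PushUp.lreg G) hι A le_rfl hnc hncX
  obtain ⟨f, hfs, hf, hfS⟩ := Setup.exists_hom h
  obtain ⟨c, hfc⟩ := hfs (PSL.weyl F)
  obtain ⟨ρ, θ, hn⟩ := (hs.centre_sect hι hc).natural h hfs hf hfS hfc
  exact ⟨A, Z, c, ρ, θ, hc, hn, hs, rfl⟩

end Cfsg.Agent.H39.Push
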