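import Cfsg.Agent.H39.Push.Common
import Cfsg.Agent.H72.Push.Walk
import Mathlib.GroupTheory.Transfer

/-!
Rank one pushing up with noncommuting neighbours: the residual is a block with elementary abelian `p`-core.
-/

set_option autoImplicit false
set_option linter.style.haveILetI false

open scoped commutatorElement

namespace Cfsg.Agent.H39.Push

open Cfsg.Agent Subgroup H72.RankOne H72.Push

/-- In a group equal to its `p`-residual, central elements of an abelian Sylow `p`-subgroup are trivial. -/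
theorem central_eq_one {H : Type*} [Group H] [Finite H] {p : ℕ} [Fact p.Prime] (hH : Cfsg.pResidual p H = ⊤)
    (P : Subgroup H) (hP : IsPGroup p P) (hidx : ¬ p ∣ P.index) (hab : ∀ a ∈ P, ∀ b ∈ P, a * b = b * a)
    {z : H} (hz : z ∈ P) (hcen : ∀ h : H, h * z = z * h) : z = 1 := by
  letI : CommGroup P :=
    { (inferInstance : Group P) with mul_comm := fun a b => Subtype.ext (hab a a.2 b b.2) }
  set t : H →* P := MonoidHom.transfer (MonoidHom.id P) with ht
  have hker : t.ker = ⊤ := eq_top_iff.2 (hH ▸ H22.pResidual_le_ker t hP)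
  have hkey : ∀ (k : ℕ) (g₀ : H), g₀⁻¹ * z ^ k * g₀ ∈ P → g₀⁻¹ * z ^ k * g₀ = z ^ k := fun k g₀ _ => by
    rw [mul_assoc, ← ((show Commute g₀ z from hcen g₀).pow_right k).eq, inv_mul_cancel_left]
  have h1 : t z = 1 := MonoidHom.mem_ker.1 (hker ▸ mem_top z)
  rw [ht, MonoidHom.transfer_eq_pow _ z hkey] at h1
  have h2 : z ^ P.index = 1 := congrArg Subtype.val h1
  obtain ⟨k, hk⟩ := hP ⟨z, hz⟩
  have h3 := pow_gcd_eq_one.2 ⟨h2, congrArg Subtype.val hk⟩
  rwa [((Fact.out : p.Prime).coprime_iff_not_dvd.2 hidx).symm.pow_right k |>.gcd_eq_one, pow_one] at h3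

variable {G : Type*} [Group G] [Finite G] {p : ℕ} [Fact p.Prime] {S : Sylow p G} {K : Subgroup G} {F : Type}
  [Field F] [Fintype F] {n : ℕ} {Z : Subgroup G} {c : G} {ρ : G →* Matrix.SpecialLinearGroup (Fin 2) F}
  {θ : G → Fin 2 → F} {X : Type*} [Group X] [Finite X] {A : Subgroup X} {ι : G →* X} {q : ℕ}

/-- The cover of `S` from noncommuting neighbours, with `O_p(G)` centralising it up to `Z`. -/
theorem exists_cover
    (hs : Sit X p ι.range ((S : Subgroup G).map ι) ((Cfsg.pCore p G).map ι) (Z.map ι) A q)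
    (hι : Function.Injective ι) (hc : CentreFacts S Z q) {a : X} (ha : a ∈ A) (hac : ¬ Com (Z.map ι) a) :
    ∃ Y, One S Z Y ∧ (∀ y ∈ Y, ∀ y' ∈ Y, y * y' = y' * y) ∧
      Cfsg.pCore p G ≤ Z ⊔ (Cfsg.pCore p G ⊓ centralizer (Y : Set G)) := by
  set Q := Cfsg.pCore p G with hQdef
  haveI hQn : Q.Normal := H19.pCore_normal p G
  have hQS : Q ≤ (S : Subgroup G) := H35.pCore_le_sylow S
  have hN : Near ι.range A (Z.map ι) 1 := fun n hn g hg => by
    obtain rfl : n = 0 := by omega
    rw [Com, hs.cjZ hg]; exact hs.hZQ.trans hs.hQZ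
  have hcov := hs.first_cover (k := 0) hN ha (show (1 : X) ∈ dist ι.range A 0 from one_mem _) (by rwa [mul_one])
  rw [mul_one] at hcov
  have hY : cj a (Z.map ι) ≤ (S : Subgroup G).map ι := hcov ▸ le_sup_left
  set Y := (cj a (Z.map ι)).comap ι with hYdef
  have hYmap : Y.map ι = cj a (Z.map ι) := map_comap_eq_self (hY.trans (map_le_range _ _))
  have hYS : Y ≤ (S : Subgroup G) := by
    rw [← comap_map_eq_self_of_injective hι (S : Subgroup G)]; exact comap_mono hY
  have hYQ : Y ⊔ Q = (S : Subgroup G) := by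
    apply map_injective hι
    rw [Subgroup.map_sup, hYmap, hcov]
  have h1 : One S Z Y := by
    refine ⟨hYS, hYQ, fun y hy => ?_, fun x hx y hy => ?_⟩
    · apply hι
      obtain ⟨z, hz, hzy⟩ := hy
      rw [map_pow, map_one, ← hzy, ← map_pow, hs.hZe.2 z hz, map_one]
    · have h1 := Subgroup.inv_mem _
        (hs.comm_nbr_S ha (commutator_mem_commutator (H₁ := cj a (Z.map ι)) hy (mem_map_of_mem ι hx)))
      rw [commutatorElement_inv, ← map_commutatorElement, map_centralizer_inf ι hι] at h1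
      rwa [← comap_map_eq_self_of_injective hι (Z ⊓ centralizer ((S : Subgroup G) : Set G))]
  have hYc : ∀ y ∈ Y, ∀ y' ∈ Y, y * y' = y' * y := by
    intro y hy y' hy'
    obtain ⟨z, hz, hzy⟩ := hy
    obtain ⟨z', hz', hzy'⟩ := hy'
    apply hι
    rw [map_mul, map_mul, ← hzy, ← hzy', ← map_mul, hs.zcomm z hz z' hz', map_mul]
  refine ⟨Y, h1, hYc, ?_⟩
  set C := (S : Subgroup G) ⊓ centralizer (Y : Set G) with hCdef
  set D := Q ⊓ centralizer (Y : Set G) with hDdef
  have hinj : ∀ H : Subgroup G, Nat.card ↥(H.map ι) = Nat.card H := fun H => card_map_of_injective hι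
  have hcardC : Nat.card C = Nat.card Q := by
    have e1 : C.map ι = cj a ((S : Subgroup G).map ι ⊓ centralizer ((Z.map ι : Subgroup X) : Set X)) := by
      rw [cj_inf, cj_centralizer, hs.cjA ha, ← hYmap, hCdef, map_centralizer_inf ι hι]
    have e2 : (S : Subgroup G).map ι ⊓ centralizer ((Z.map ι : Subgroup X) : Set X) = Q.map ι :=
      le_antisymm hs.le_Q (le_inf hs.hQS hs.hQZ)
    rw [← hinj C, e1, card_cj, e2, hinj]
  have hcS : Nat.card (S : Subgroup G) = q * Nat.card Q := by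
    have := hs.cardS
    rwa [hinj, hinj] at this
  have hq : 0 < q := by have := hs.hq; omega
  -- `|Q| ≤ q |D|`
  have hD : Nat.card Q ≤ q * Nat.card D := by
    have h2 := H75.card_mul_card_le C Q
    rw [hcardC] at h2
    have hle : Nat.card ↥(C ⊔ Q) ≤ q * Nat.card Q := hcS ▸
      Nat.le_of_dvd Nat.card_pos (card_dvd_of_le (sup_le inf_le_left hQS))
    have hCQ : C ⊓ Q = D := by
      rw [hCdef, hDdef, inf_right_comm, inf_eq_right.2 hQS]
    rw [hCQ] at h2
    refine Nat.le_of_mul_le_mul_left ?_ (Nat.card_pos (α := Q))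
    calc Nat.card Q * Nat.card Q ≤ Nat.card D * Nat.card ↥(C ⊔ Q) := h2
      _ ≤ Nat.card D * (q * Nat.card Q) := Nat.mul_le_mul_left _ hle
      _ = Nat.card Q * (q * Nat.card D) := by ring
  -- `Z ∩ D` is the fixed line
  have hZD : Z ⊓ D ≤ Z ⊓ centralizer ((S : Subgroup G) : Set G) := by
    refine fun z hz => ⟨hz.1, ?_⟩
    have hle : Y ⊔ Q ≤ centralizer ({z} : Set G) := sup_le
      (fun y hy => mem_centralizer_singleton_iff.2 (mem_centralizer_iff.1 hz.2.2 y hy))
      (hc.cent.trans (centralizer_le (Set.singleton_subset_iff.2 hz.1)))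
    rw [hYQ] at hle
    exact mem_centralizer_iff.2 fun s hs' => mem_centralizer_singleton_iff.1 (hle hs')
  have hsect := hs.centre_sect hι hc
  have hcardZ : Nat.card Z = q * Nat.card ↥(Z ⊓ centralizer ((S : Subgroup G) : Set G)) := by
    rw [hsect.cardA, hsect.cardL, mul_assoc]
  refine (eq_of_le_of_card_ge (sup_le hc.le inf_le_left) ?_).ge
  have h3 := H75.card_mul_card_le Z D
  have h4 := Nat.le_of_dvd Nat.card_pos (card_dvd_of_le hZD)
  refine Nat.le_of_mul_le_mul_left ?_ (Nat.card_pos (α := ↥(Z ⊓ centralizer ((S : Subgroup G) : Set G))))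
  calc _ ≤ Nat.card ↥(Z ⊓ centralizer ((S : Subgroup G) : Set G)) * (q * Nat.card D) := Nat.mul_le_mul_left _ hD
    _ = Nat.card Z * Nat.card D := by rw [hcardZ]; ring
    _ ≤ _ := h3.trans (Nat.mul_le_mul_right _ h4)

/-- The data when neighbouring centres do not commute. -/
theorem rankData_one (h : Setup S K F n) (hnc : NoChar (S : Subgroup G)) (hc : CentreFacts S Z q)
    (hn : NatSect (F := F) (S : Subgroup G) Z (Z ⊓ centralizer ((⊤ : Subgroup G) : Set G))
      (Z ⊓ centralizer ((S : Subgroup G) : Set G)) c ρ θ)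
    (hs : Sit X p ι.range ((S : Subgroup G).map ι) ((Cfsg.pCore p G).map ι) (Z.map ι) A q)
    (hι : Function.Injective ι) {a : X} (ha : a ∈ A) (hac : ¬ Com (Z.map ι) a) :
    H34.Push.RankData p (S : Subgroup G) F n := by
  obtain ⟨Y, h1, hYc, hQY⟩ := exists_cover hs hι hc ha hac
  have hker := h1.ker_eq h hnc hc hn
  set Q := Cfsg.pCore p G with hQdef
  haveI hQn : Q.Normal := H19.pCore_normal p G
  have hQS : Q ≤ (S : Subgroup G) := H35.pCore_le_sylow S
  set E := Cfsg.pResidual p G with hE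
  haveI hEn : E.Normal := H22.pResidual_normal
  haveI := hc.normal
  set W := ⁅Z, E⁆ with hW
  haveI hWn : W.Normal := inferInstance
  have hWZ : W ≤ Z := commutator_le_left _ _
  have hWQ : W ≤ Q := hWZ.trans hc.le
  have hWE : W ≤ E := commutator_le_right _ _
  -- `[Q, E] = [Z, E]`
  have hQYW : ∀ x ∈ Q, ∀ y ∈ Y, ⁅x, y⁆ ∈ W := by
    intro x hx y hy
    have h2 := hQY hx
    rw [← SetLike.mem_coe, Subgroup.normal_mul] at h2
    obtain ⟨z, hz, d, hd, rfl⟩ := h2
    have hdy : d * y * d⁻¹ = y := by rw [← mem_centralizer_iff.1 hd.2 y hy, mul_inv_cancel_right]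
    have e : ⁅z * d, y⁆ = ⁅z, y⁆ := by
      simp only [commutatorElement_def]
      rw [show z * d * y * (z * d)⁻¹ * y⁻¹ = z * (d * y * d⁻¹) * z⁻¹ * y⁻¹ by group, hdy]
    obtain ⟨w, hw, hwg⟩ := comm_centre h hn hz
    rw [e, hwg y, show ⁅w, y⁆ = w * (y * w⁻¹ * y⁻¹) by rw [commutatorElement_def]; group]
    exact W.mul_mem hw (hWn.conj_mem _ (W.inv_mem hw) y)
  have hQE : ⁅Q, E⁆ = W := le_antisymm
    ((commutator_mono le_rfl (res_le_normalClosure h h1.hYS h1.hYQ)).trans (act_normalClosure hQn hWn hQYW))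
    (commutator_mono hc.le le_rfl)
  -- `E ∩ Q = [Z, E]`
  have hEQ : E ⊓ Q = W := by
    refine le_antisymm ?_ (le_inf hWE hWQ)
    set π := (QuotientGroup.mk' (W.subgroupOf E))
    set PE := (S : Subgroup G).subgroupOf E with hPE
    have hH : Cfsg.pResidual p (↥E ⧸ W.subgroupOf E) = ⊤ := by
      rw [← H22.map_pResidual_of_surjective π (QuotientGroup.mk'_surjective _),
        show Cfsg.pResidual p ↥E = ⊤ from H22.pResidual_pResidual_eq_top, map_top_of_surjective _ (QuotientGroup.mk'_surjective _)]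
    have hP : IsPGroup p (PE.map π) := (S.2.comap_of_injective _ E.subtype_injective).map π
    have hidx : ¬ p ∣ (PE.map π).index := fun hd =>
      H22.sylow_not_dvd_relIndex_normal S E (hd.trans (index_map_dvd PE (QuotientGroup.mk'_surjective _)))
    -- commutators inside `S ∩ E` lie in `W`
    have hab : ∀ u ∈ E, u ∈ (S : Subgroup G) → ∀ v ∈ E, v ∈ (S : Subgroup G) → ⁅u, v⁆ ∈ W := by
      intro u hu huS v hv hvS
      set μ := QuotientGroup.mk' W with hμ
      have hone : ∀ g : G, μ g = 1 ↔ g ∈ W := fun g => QuotientGroup.eq_one_iff g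
      have hcm : ∀ g k : G, ⁅g, k⁆ ∈ W → Commute (μ g) (μ k) := fun g k hgk => by
        rw [← commutatorElement_eq_one_iff_commute, ← map_commutatorElement]
        exact (hone _).2 hgk
      have hQe : ∀ d ∈ Q, ∀ e ∈ E, Commute (μ d) (μ e) := fun d hd e he =>
        hcm d e (hQE ▸ commutator_mem_commutator hd he)
      have hQy : ∀ d ∈ Q, ∀ y ∈ Y, Commute (μ d) (μ y) := fun d hd y hy => hcm d y (hQYW d hd y hy)
      have hdec : ∀ s ∈ (S : Subgroup G), ∃ y ∈ Y, ∃ d ∈ Q, y * d = s := fun s hs' => by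
        rw [← h1.hYQ, ← SetLike.mem_coe, Subgroup.mul_normal] at hs'
        exact hs'
      obtain ⟨y, hy, d, hd, rfl⟩ := hdec u huS
      obtain ⟨y', hy', d', hd', rfl⟩ := hdec v hvS
      refine (hone _).1 ?_
      rw [map_commutatorElement, commutatorElement_eq_one_iff_commute, map_mul μ y d]
      refine Commute.mul_left ?_ (hQe d hd _ hv)
      rw [map_mul]
      exact Commute.mul_right ((show Commute y y' from hYc y hy y' hy').map μ) (hQy d' hd' y hy).symm
    have habP : ∀ u ∈ PE.map π, ∀ v ∈ PE.map π, u * v = v * u := by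
      rintro _ ⟨u, hu, rfl⟩ _ ⟨v, hv, rfl⟩
      refine (commutatorElement_eq_one_iff_commute.1 ?_ : Commute (π u) (π v)).eq
      rw [← map_commutatorElement]
      exact (QuotientGroup.eq_one_iff _).2 (hab u u.2 hu v v.2 hv)
    rintro z ⟨hzE, hzQ⟩
    have hz1 : π ⟨z, hzE⟩ = 1 := by
      refine central_eq_one hH _ hP hidx habP (mem_map_of_mem π (show (⟨z, hzE⟩ : E) ∈ PE from hQS hzQ)) ?_
      intro u
      obtain ⟨u, rfl⟩ := QuotientGroup.mk'_surjective _ u
      refine (commutatorElement_eq_one_iff_commute.1 ?_ : Commute (π u) (π ⟨z, hzE⟩)).eq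
      rw [← map_commutatorElement, ← commutatorElement_inv, map_inv, inv_eq_one]
      exact (QuotientGroup.eq_one_iff _).2 (hQE ▸ commutator_mem_commutator hzQ u.2)
    exact (QuotientGroup.eq_one_iff (N := W.subgroupOf E) _).1 hz1
  have hcore : Cfsg.pCoreOf p E = W := by rw [H73.pCoreOf_normal, hEQ]
  have hom : Cfsg.omegaOneCenter p W = W := by
    ext x
    rw [H74.mem_omegaOneCenter_iff]
    exact ⟨fun hx => hx.1.1, fun hx => ⟨⟨hx, mem_centralizer_iff.2 fun y hy =>
      congrArg Subtype.val (hc.elem.1.is_comm.comm (⟨y, hWZ hy⟩ : Z) ⟨x, hWZ hx⟩)⟩,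
      hc.elem.2 x (hWZ hx)⟩⟩
  refine rankData_of h hnc hc hn hker (by rw [hcore, hom]) (hQE.trans hcore.symm)
    (by rw [hcore]; exact comm_comm_centre h hn) ?_ (Or.inl (by rw [hcore, hom]))
  -- the Frattini subgroup of `O_p(G)` centralises the residual
  have hWQ1 : ⁅W, Q⁆ = ⊥ := commutator_eq_bot_iff_le_centralizer.2
    (le_centralizer_iff.1 (hc.cent.trans (centralizer_le hWZ)))
  have hQQE : ⁅⁅Q, Q⁆, E⁆ = ⊥ :=
    commutator_commutator_eq_bot_of_rotate (by rw [hQE, hWQ1]) (by rw [commutator_comm E Q, hQE, hWQ1])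
  refine commutator_eq_bot_iff_le_centralizer.2 (H74.map_frattini_le_of (p := p) ?_ ?_)
  · exact fun u hu v hv => commutator_eq_bot_iff_le_centralizer.1 hQQE (commutator_mem_commutator hu hv)
  · intro d hd
    refine mem_centralizer_iff.2 fun e he => ?_
    have hw : ⁅e, d⁆ ∈ W := hQE ▸ commutator_comm Q E ▸ commutator_mem_commutator he hd
    have hcw : Commute ⁅e, d⁆ d := mem_centralizer_iff.1 (hc.cent hd) _ (hWZ hw)
    have e1 : e * d ^ p * e⁻¹ = d ^ p := by
      rw [← conj_pow, show e * d * e⁻¹ = ⁅e, d⁆ * d by rw [commutatorElement_def]; group, hcw.mul_pow,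
        hc.elem.2 _ (hWZ hw), one_mul]
    exact mul_inv_eq_iff_eq_mul.1 e1

end Cfsg.Agent.H39.Push
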