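import Cfsg.Agent.H63.CoxeterA

/-! A central extension of a symmetric group in which some swap lifts to an involution and lifts of
disjoint swaps commute splits. -/

set_option autoImplicit false

namespace Cfsg.Agent.H39.Push

open Subgroup
open scoped commutatorElement

variable {H : Type*} [Group H]

theorem commutator_inf_ker [Finite H] {m : ℕ} (f : H →* Equiv.Perm (Fin m)) (hf : Function.Surjective f)
    (hc : f.ker ≤ Subgroup.center H) (ht : m ≤ 1 ∨ ∃ t : H, t * t = 1 ∧ (f t).IsSwap)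
    (hcomm : ∀ t u : H, (f t).IsSwap → (f u).IsSwap → (f t).Disjoint (f u) → Commute t u) :
    commutator H ⊓ f.ker = ⊥ := by
  have habel : m ≤ 1 → commutator H ⊓ f.ker = ⊥ := fun hm => by
    haveI : Subsingleton (Fin m) := Fin.subsingleton_iff_le_one.2 hm
    have hall : ∀ x : H, x ∈ Subgroup.center H := fun x => hc (Subsingleton.elim (f x) 1)
    rw [eq_bot_iff]
    refine inf_le_left.trans ?_
    rw [_root_.commutator_def, Subgroup.commutator_le]
    intro a _ b _
    rw [Subgroup.mem_bot, commutatorElement_eq_one_iff_mul_comm]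
    exact (Subgroup.mem_center_iff.1 (hall a) b).symm
  by_cases hm : m ≤ 1
  · exact habel hm
  obtain ⟨t, htt, htswap⟩ := ht.resolve_left hm
  obtain ⟨n, rfl⟩ : ∃ n, m = n + 1 := ⟨m - 1, by omega⟩
  let sw : Fin n → Equiv.Perm (Fin (n + 1)) := fun i => Equiv.swap i.castSucc i.succ
  have hswap : ∀ i, (sw i).IsSwap := fun i => ⟨_, _, by simp [Fin.ext_iff], rfl⟩
  have hlift : ∀ i : Fin n, ∃ u : H, f u = sw i ∧ u * u = 1 := by
    intro i
    obtain ⟨σ, hσ⟩ := isConj_iff.1 (Equiv.Perm.isConj_iff_cycleType_eq.2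
      (show (f t).cycleType = (sw i).cycleType by
        rw [Equiv.Perm.isSwap_iff_cycleType.1 htswap, Equiv.Perm.isSwap_iff_cycleType.1 (hswap i)]))
    obtain ⟨h, rfl⟩ := hf σ
    refine ⟨h * t * h⁻¹, by rw [map_mul, map_mul, map_inv, hσ], ?_⟩
    rw [show h * t * h⁻¹ * (h * t * h⁻¹) = h * (t * t) * h⁻¹ by group, htt, mul_one, mul_inv_cancel]
  choose u0 hu0 hu0' using hlift
  let u : ℕ → H := fun i => if h : i < n then u0 ⟨i, h⟩ else 1
  let w : ℕ → H := fun i => Nat.rec (u 0) (fun k a => u (k + 1) * (a * u (k + 1)) ^ 3) i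
  have hw0 : w 0 = u 0 := rfl
  have hwsucc : ∀ i, w (i + 1) = u (i + 1) * (w i * u (i + 1)) ^ 3 := fun i => rfl
  have hbraid : ∀ (i : ℕ) (hi : i + 1 < n),
      (sw ⟨i, by omega⟩ * sw ⟨i + 1, hi⟩) ^ 3 = 1 := by
    intro i hi
    have h := H63.adjacent_swaps_isLiftable n ⟨i, by omega⟩ ⟨i + 1, hi⟩
    rwa [H63.coxeterA_apply, if_neg (by simp [Fin.ext_iff]), if_pos (by simp)] at h
  have key : ∀ (i : ℕ) (hi : i < n), f (w i) = sw ⟨i, hi⟩ ∧ w i * w i = 1 := by
    intro i
    induction i with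
    | zero =>
      intro hi
      simp only [hw0, u, dif_pos hi]
      exact ⟨hu0 _, hu0' _⟩
    | succ i ih =>
      intro hi
      obtain ⟨h1, h2⟩ := ih (by omega)
      have hu : u (i + 1) = u0 ⟨i + 1, hi⟩ := dif_pos hi
      have hk : (w i * u (i + 1)) ^ 3 ∈ f.ker := by
        rw [MonoidHom.mem_ker, map_pow, map_mul, h1, hu, hu0]
        exact hbraid i hi
      have hz := Subgroup.mem_center_iff.1 (hc hk)
      refine ⟨?_, ?_⟩
      · rw [hwsucc, map_mul, MonoidHom.mem_ker.1 hk, mul_one, hu, hu0]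
      · have hinv : ((w i * u (i + 1)) ^ 3)⁻¹ = (w i * u (i + 1)) ^ 3 := by
          have hwinv : (w i)⁻¹ = w i := inv_eq_of_mul_eq_one_right h2
          have huinv : (u (i + 1))⁻¹ = u (i + 1) := inv_eq_of_mul_eq_one_right (by rw [hu]; exact hu0' _)
          calc ((w i * u (i + 1)) ^ 3)⁻¹ = (w i * (w i * u (i + 1)) * (w i)⁻¹) ^ 3 := by
                rw [← inv_pow, mul_inv_rev, hwinv, huinv]
                congr 1
                rw [← mul_assoc (w i) (w i), h2, one_mul]
            _ = (w i * u (i + 1)) ^ 3 := by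
                rw [conj_pow, hz (w i), mul_inv_cancel_right]
        rw [hwsucc]
        rw [show ∀ a z : H, a * z * (a * z) = a * (z * a) * z from fun a z => by group, ← hz]
        have huu : u (i + 1) * u (i + 1) = 1 := by rw [hu]; exact hu0' _
        rw [← mul_assoc (u (i + 1)) (u (i + 1)), huu, one_mul]
        nth_rewrite 1 [← hinv]
        exact inv_mul_cancel _
  have hlw : (CoxeterMatrix.A n).IsLiftable (fun i : Fin n => w i) := by
    have one_dir : ∀ i j : Fin n, (i : ℕ) + 1 = j → (w i * w j) ^ 3 = 1 := by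
      intro i j hij
      obtain ⟨h1, h2⟩ := key i i.2
      have hk : (w i * u ((i : ℕ) + 1)) ^ 3 ∈ f.ker := by
        rw [MonoidHom.mem_ker, map_pow, map_mul, h1]
        simp only [u, dif_pos (show (i : ℕ) + 1 < n by omega), hu0]
        exact hbraid i (by omega)
      have hz := Subgroup.mem_center_iff.1 (hc hk)
      have hsq : w ((i : ℕ) + 1) * w ((i : ℕ) + 1) = 1 := (key ((i : ℕ) + 1) (by omega)).2
      rw [← hij, hwsucc]
      rw [hwsucc] at hsq
      set a := w i * u ((i : ℕ) + 1) with ha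
      have hzz : a ^ 3 * a ^ 3 = 1 := by
        have e : u ((i : ℕ) + 1) * u ((i : ℕ) + 1) = 1 := by
          simp only [u, dif_pos (show (i : ℕ) + 1 < n by omega)]
          exact hu0' _
        rw [show ∀ x z : H, x * z * (x * z) = x * (z * x) * z from fun x z => by group, ← hz,
          ← mul_assoc (u _) (u _), e, one_mul] at hsq
        exact hsq
      rw [show w i * (u ((i : ℕ) + 1) * a ^ 3) = a * a ^ 3 by rw [ha, mul_assoc], ← pow_succ', ← pow_mul,
        show (3 + 1) * 3 = (3 + 3) + (3 + 3) by norm_num, pow_add, pow_add, hzz, one_mul]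
    intro i j
    rw [H63.coxeterA_apply]
    by_cases hij : i = j
    · subst hij
      rw [if_pos rfl, pow_one]
      exact (key i i.2).2
    rw [if_neg hij]
    have hij' : (i : ℕ) ≠ (j : ℕ) := fun h => hij (Fin.ext h)
    by_cases h3 : (j : ℕ) + 1 = i ∨ (i : ℕ) + 1 = j
    · rw [if_pos h3]
      rcases h3 with h | h
      · have hi' : (w i)⁻¹ = w i := inv_eq_of_mul_eq_one_right (key i i.2).2
        have hj' : (w j)⁻¹ = w j := inv_eq_of_mul_eq_one_right (key j j.2).2
        rw [← inv_eq_one, ← inv_pow, mul_inv_rev, hi', hj']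
        exact one_dir j i h
      · exact one_dir i j h
    · rw [if_neg h3]
      have hd : (sw i).Disjoint (sw j) := by
        intro x
        by_cases hx : x = i.castSucc ∨ x = i.succ
        · right
          apply Equiv.swap_apply_of_ne_of_ne <;>
            (rcases hx with rfl | rfl <;> simp [Fin.ext_iff] <;> omega)
        · left
          rw [not_or] at hx
          exact Equiv.swap_apply_of_ne_of_ne hx.1 hx.2
      have h := hcomm (w i) (w j) ((key i i.2).1 ▸ hswap i) ((key j j.2).1 ▸ hswap j)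
        (by rw [(key i i.2).1, (key j j.2).1]; exact hd)
      rw [h.mul_pow, pow_two, pow_two, (key i i.2).2, (key j j.2).2, one_mul]
  obtain ⟨cs, hcs⟩ := H63.exists_coxeterSystem_perm n
  let s : Equiv.Perm (Fin (n + 1)) →* H := cs.lift ⟨_, hlw⟩
  have hfs : f.comp s = MonoidHom.id _ := cs.ext_simple fun i => by
    simp only [MonoidHom.comp_apply, MonoidHom.id_apply, s, CoxeterSystem.lift_apply_simple]
    rw [(key i i.2).1, hcs]
  have hle : commutator H ≤ s.range := by
    rw [_root_.commutator_def, Subgroup.commutator_le]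
    intro a _ b _
    have hsplit : ∀ x : H, ∃ k ∈ Subgroup.center H, x = k * s (f x) := fun x => by
      refine ⟨x * (s (f x))⁻¹, hc ?_, by group⟩
      rw [MonoidHom.mem_ker, map_mul, map_inv, ← MonoidHom.comp_apply f s, hfs, MonoidHom.id_apply,
        mul_inv_cancel]
    obtain ⟨k, hk, hak⟩ := hsplit a
    obtain ⟨l, hl, hbl⟩ := hsplit b
    refine ⟨⁅f a, f b⁆, ?_⟩
    have hk' := Subgroup.mem_center_iff.1 hk
    have hl' := Subgroup.mem_center_iff.1 hl
    rw [map_commutatorElement]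
    conv_rhs => rw [hak, hbl]
    rw [commutatorElement_def, commutatorElement_def, mul_inv_rev, mul_inv_rev]
    have e : ∀ x y : H, k * x * (l * y) * (x⁻¹ * k⁻¹) * (y⁻¹ * l⁻¹) = x * y * x⁻¹ * y⁻¹ := by
      intro x y
      rw [← hk' x, show x * k * (l * y) = x * (k * (l * y)) from mul_assoc _ _ _, ← hk' (l * y), ← hl' y]
      calc x * (y * l * k) * (x⁻¹ * k⁻¹) * (y⁻¹ * l⁻¹)
          = x * y * l * (k * x⁻¹) * (k⁻¹ * y⁻¹) * l⁻¹ := by group
        _ = x * y * l * (x⁻¹ * k) * (k⁻¹ * y⁻¹) * l⁻¹ := by rw [hk' x⁻¹]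
        _ = x * y * l * (x⁻¹ * y⁻¹) * l⁻¹ := by group
        _ = x * y * ((x⁻¹ * y⁻¹) * l) * l⁻¹ := by rw [hl' (x⁻¹ * y⁻¹)]; group
        _ = x * y * x⁻¹ * y⁻¹ := by group
    rw [e]
  rw [eq_bot_iff]
  rintro x ⟨hx, hxk⟩
  obtain ⟨y, rfl⟩ := hle hx
  have hy : y = 1 := by
    rw [← MonoidHom.id_apply (M := Equiv.Perm (Fin (n + 1))) y, ← hfs]
    exact hxk
  rw [hy, map_one]
  exact one_mem _

end Cfsg.Agent.H39.Push
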