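import Cfsg.Agent.H51.BlockConj
import Cfsg.Agent.H74.PushingUpCL

/-!
Blocks and sections carried along an injective homomorphism.
-/

set_option autoImplicit false
set_option linter.unusedSectionVars false

open scoped commutatorElement

namespace Cfsg.Agent.H39.Push

open Cfsg.Agent Subgroup

variable {A B : Type*} [Group A] [Group B] (f : A →* B) (hf : Function.Injective f) {p : ℕ}

include hf

/-- `p`-cores of subgroups along an injective map. -/
theorem pCoreOf_map (H : Subgroup A) : Cfsg.pCoreOf p (H.map f) = (Cfsg.pCoreOf p H).map f := by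
  let e := H.equivMapOfInjective f hf
  show (Cfsg.pCore p ↥(H.map f)).map (H.map f).subtype = ((Cfsg.pCore p ↥H).map H.subtype).map f
  rw [← H51.pCore_map_equiv p e, Subgroup.map_map, Subgroup.map_map]
  rfl

/-- Residuals of subgroups along an injective map. -/
theorem pResidualOf_map [Finite A] [Fact p.Prime] (H : Subgroup A) :
    Cfsg.pResidualOf p (H.map f) = (Cfsg.pResidualOf p H).map f := by
  let e := H.equivMapOfInjective f hf
  show (Cfsg.pResidual p ↥(H.map f)).map (H.map f).subtype = ((Cfsg.pResidual p ↥H).map H.subtype).map f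
  rw [← H22.map_pResidual_of_surjective e.toMonoidHom e.surjective, Subgroup.map_map, Subgroup.map_map]
  rfl

/-- Centralised parts along an injective map. -/
theorem map_inf_centralizer (U H : Subgroup A) :
    (U ⊓ centralizer (H : Set A)).map f = U.map f ⊓ centralizer ((H.map f : Subgroup B) : Set B) := by
  apply le_antisymm
  · rintro _ ⟨y, hy, rfl⟩
    refine ⟨⟨y, hy.1, rfl⟩, mem_centralizer_iff.2 ?_⟩
    rintro _ ⟨t, ht, rfl⟩
    rw [← map_mul, ← map_mul, mem_centralizer_iff.1 hy.2 t ht]
  · rintro x ⟨⟨y, hy, rfl⟩, hc⟩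
    refine ⟨y, ⟨hy, mem_centralizer_iff.2 fun t ht => hf ?_⟩, rfl⟩
    rw [map_mul, map_mul]
    exact mem_centralizer_iff.1 hc _ ⟨t, ht, rfl⟩

/-- `Ω₁(Z(X))` along an injective map. -/
theorem omegaOneCenter_map [Fact p.Prime] (X : Subgroup A) :
    Cfsg.omegaOneCenter p (X.map f) = (Cfsg.omegaOneCenter p X).map f := by
  ext x
  rw [H74.mem_omegaOneCenter_iff, ← map_inf_centralizer f hf]
  constructor
  · rintro ⟨⟨y, hy, rfl⟩, hp⟩
    exact ⟨y, H74.mem_omegaOneCenter_iff.2 ⟨hy, hf (by rw [map_pow, hp, map_one])⟩, rfl⟩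
  · rintro ⟨y, hy, rfl⟩
    rw [SetLike.mem_coe, H74.mem_omegaOneCenter_iff] at hy
    exact ⟨⟨y, hy.1, rfl⟩, by rw [← map_pow, hy.2, map_one]⟩

/-- Frattini subgroups of subgroups along an injective map. -/
theorem frattini_map (X : Subgroup A) :
    (frattini ↥(X.map f)).map (X.map f).subtype = ((frattini ↥X).map X.subtype).map f := by
  let e := X.equivMapOfInjective f hf
  rw [← H51.map_frattini_equiv e, Subgroup.map_map, Subgroup.map_map]
  rfl

/-- Sections with the natural module along an injective map. -/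
theorem actsAsSL2_map {F : Type*} [Field F] {R : Subgroup (Matrix.SpecialLinearGroup (Fin 2) F)}
    {E U U₀ : Subgroup A} (h : Cfsg.ActsAsSL2OnSection F R E U U₀) :
    Cfsg.ActsAsSL2OnSection F R (E.map f) (U.map f) (U₀.map f) := by
  obtain ⟨hEU, hle, ρ, ψ, hρ, hψ, hker, hact⟩ := h
  let eE := E.equivMapOfInjective f hf
  let eU := U.equivMapOfInjective f hf
  refine ⟨(map_mono hEU).trans (le_normalizer_map _), map_mono hle, ρ.comp eE.symm.toMonoidHom,
    ψ.comp eU.symm.toMonoidHom, ?_, hψ.comp eU.symm.surjective, fun u => ?_, fun e u => ?_⟩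
  · rw [MonoidHom.range_comp, MonoidHom.range_eq_top.mpr eE.symm.surjective, ← MonoidHom.range_eq_map, hρ]
  · obtain ⟨u, rfl⟩ := eU.surjective u
    show ψ (eU.symm (eU u)) = 1 ↔ _
    rw [eU.symm_apply_apply, hker u]
    exact (mem_map_iff_mem hf).symm
  · obtain ⟨e, rfl⟩ := eE.surjective e
    obtain ⟨u, rfl⟩ := eU.surjective u
    obtain ⟨w, hw, hwv⟩ := hact e u
    refine ⟨eU w, ?_, ?_⟩
    · show f (w : A) = f (e : A) * f (u : A) * (f (e : A))⁻¹
      rw [hw, map_mul, map_mul, map_inv]
    · show Multiplicative.toAdd (ψ (eU.symm (eU w))) =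
        ((ρ (eE.symm (eE e)) : Matrix.SpecialLinearGroup (Fin 2) F) :
          Matrix (Fin 2) (Fin 2) F).mulVec (Multiplicative.toAdd (ψ (eU.symm (eU u))))
      rw [eU.symm_apply_apply, eU.symm_apply_apply, eE.symm_apply_apply]
      exact hwv

end Cfsg.Agent.H39.Push
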